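import Groth.Agent.DMLargest.Points
import Groth.Agent.DMSlice.EtaleAtlas
import Groth.Agent.DMDiag.Basic
import Groth.Agent.AlgStLib.Props
import Groth.Agent.GerbDense.Main

/-!
# The largest Deligne–Mumford open substack of an algebraic stack
-/

set_option autoImplicit false
set_option backward.isDefEq.respectTransparency false
set_option backward.isDefEq.respectTransparency.types false
set_option linter.style.haveILetI false
universe u

noncomputable section

namespace Groth.Agent.DMLargest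

open CategoryTheory CategoryTheory.Limits AlgebraicGeometry Groth.Agent.AlgSpLib Groth.Agent.StkBasic
  Groth.Agent.FibCatRep Groth.Agent.FibCat2Misc Groth.Agent.AlgStLib Groth.Agent.DMSlice
open _root_.AlgSp _root_.AlgSt

variable {S : Scheme.{u}} {𝒳 : AlgSt.Cat S}

local notation "AS" => IsAlgStack Scheme.fppfPrecoverage
local notation "IX" => FibCat.inertiaToBase (FibCat.toSelf 𝒳)
local notation "NX" => FibCat.inertiaNeutral (FibCat.toSelf 𝒳)

theorem inSet_mono {O O' : Set (AlgSt.Points 𝒳)} (h : O ⊆ O') {a : 𝒳.obj} (ha : InSet O a) : InSet O' a :=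
  fun p hp => h (ha p hp)

set_option maxHeartbeats 2000000 in
/-- over the preimage of the unramified locus of the inertia the stack is DM over the base -/
theorem isDMOver_fullSub (h𝒳 : AS 𝒳) {V : AlgSp.Space S} (y : AlgSt.ofSp V.obj ⥤ᵇ 𝒳)
    (hy : RepByAlgSpWith (LocP @Smooth) y) (hy' : RepByAlgSpWith AlgSp.IsSurjectiveMor y)
    {OI : Set (AlgSt.Points (FibCat.inertia (FibCat.toSelf 𝒳)))} (hOI : IsOpen OI)
    (hmax : IsMaxOn (LocP Unr) IX OI y) :
    AlgSt.IsDMOver (AlgSt.fullSub 𝒳 (InSet (AlgSt.Points.map NX ⁻¹' OI))) := by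
  have hI : AS (FibCat.inertia (FibCat.toSelf 𝒳)) := IsoSh.isAlgStack_inertia h𝒳
  have hl := repWith_inertia_of_diag (repWith_lft_diag_toSelf h𝒳)
  have hO := hOI.preimage (continuous_map hI NX)
  let O := AlgSt.Points.map NX ⁻¹' OI
  obtain ⟨-, hA, hi⟩ := isOpenSubstack_inSet h𝒳 hO
  let i := AlgSt.subIncl 𝒳 (InSet O)
  have hsm : RepByAlgSpWith (LocP @Smooth) i := AlgStLib.repWith_mono hi fun _ T a _ ha =>
    LargestOpen.locP_of_openImm _ etST_smooth a (IsAlgSpace.yon_obj T) ha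
  obtain ⟨hg, -⟩ := largest_baseChange locusHyp_unramified hI h𝒳 hA hl y hy hy' hOI hmax i hsm
  let OJ : Set (AlgSt.Points (FibCat.fp i IX)) := AlgSt.Points.map (FibCat.fpSnd i IX) ⁻¹' OI
  have hJ : AS (FibCat.fp i IX) := isAlgStack_fp_of _ hA hI h𝒳 i IX
  have hOJ : IsOpen OJ := hOI.preimage (continuous_map hI _)
  obtain ⟨-, hJ', hj⟩ := isOpenSubstack_inSet hJ hOJ
  let L : AlgSt.fullSub 𝒳 (InSet O) ⥤ᵇ FibCat.fp i IX :=
    FibCat.fpLift (BasedFunctor.id _) (BasedFunctor.comp i NX) (Iso.refl _)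
  have hsub : Set.range (AlgSt.Points.map L) ⊆ OJ := by
    rintro _ ⟨q, rfl⟩
    show AlgSt.Points.map (FibCat.fpSnd i IX) _ ∈ OI
    rw [← map_comp_points]
    show AlgSt.Points.map (BasedFunctor.comp i NX) q ∈ OI
    rw [map_comp_points]
    exact (range_subIncl_inSet O).subset ⟨q, rfl⟩
  let s : AlgSt.fullSub 𝒳 (InSet O) ⥤ᵇ AlgSt.fullSub (FibCat.fp i IX) (InSet OJ) :=
    liftSub (InSet OJ) L fun a => inSet_mono hsub (inSet_range_map hA.isStack.1 hJ.isStack.1 L a)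
  have hs : AlgSt.IsOpenImm s := AlgStLib.repWith_section _ s (Iso.refl _) (isOpenImm_diag_of_unramified hg)
  have hL : AlgSt.IsOpenImm L := by
    have := repWith_comp_rep (P := @IsOpenImmersion) hA.isStack.1 hJ'.isStack.1 hs hj
    exact this
  have hN : AlgSt.IsOpenImm (FibCat.inertiaNeutral (FibCat.toSelf (AlgSt.fullSub 𝒳 (InSet O)))) :=
    (repWith_iff_of_equiv _ L (FibCat.inertiaNeutral (FibCat.toSelf (AlgSt.fullSub 𝒳 (InSet O))))
      (BasedFunctor.id _) (GerbDense.subInertia (InSet O)) isEquivOver_id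
      (GerbDense.isEquivOver_subInertia _)
      (fpExt (Iso.refl _) (BasedNatIso.mkNatIso (NatIso.ofComponents (fun a => Iso.refl _) (fun {a b} m =>
        FibCat.InertiaObj.hom_ext ((Category.comp_id _).trans (Category.id_comp _).symm)))
        (fun a => IsHomLift.of_fac' _ _ _ rfl rfl (by simp))) (fun a => show 𝟙 a.obj ≫ 𝟙 a.obj = 𝟙 a.obj ≫ 𝟙 a.obj from rfl))).1 hL
  exact unramified_of_isOpenImm_diag (repWith_lft_diag_toSelf hA) (repWith_neutral_iff.1 hN)

/-- a functor along which the inertia is unramified lands in the preimage of the unramified locus -/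
theorem range_subset_of_unramified (h𝒳 : AS 𝒳) {V : AlgSp.Space S} (y : AlgSt.ofSp V.obj ⥤ᵇ 𝒳)
    (hy : RepByAlgSpWith (LocP @Smooth) y) (hy' : RepByAlgSpWith AlgSp.IsSurjectiveMor y)
    {OI : Set (AlgSt.Points (FibCat.inertia (FibCat.toSelf 𝒳)))}
    (hmax : IsMaxOn (LocP Unr) IX OI y) {U : Over S} (x : FibCat.overCat U ⥤ᵇ 𝒳)
    (hx : RepByAlgSpWith (LocP Unr) (FibCat.fpFst x IX)) :
    Set.range (AlgSt.Points.map x) ⊆ AlgSt.Points.map NX ⁻¹' OI := by
  have hI : AS (FibCat.inertia (FibCat.toSelf 𝒳)) := IsoSh.isAlgStack_inertia h𝒳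
  have hl := repWith_inertia_of_diag (repWith_lft_diag_toSelf h𝒳)
  let t : AlgSt.ofSp (spOf U).obj ⥤ᵇ 𝒳 := BasedFunctor.comp (toOverCat U) x
  have ht : RepByAlgSpWith (LocP Unr) (FibCat.fpFst t IX) :=
    (repWith_iff_of_equiv _ (FibCat.fpFst t IX) (FibCat.fpFst (toOverCat U) (FibCat.fpFst x IX))
      (pasteFun (toOverCat U) x IX) (BasedFunctor.id _) (isEquivOver_pasteFun _ x IX) isEquivOver_id (Iso.refl _)).2
      (AlgStLib.repWith_fpFst _ (FibCat.fpFst x IX) (toOverCat U) hx)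
  rintro _ ⟨q, rfl⟩
  obtain ⟨p, rfl⟩ := (bijective_map_of_equiv (isEquivOver_toOverCat U)).2 q
  refine mem_of_unramified hI.isStack.1 h𝒳.isStack.1 hl y hy hy' hmax t ht p _ ?_
  rw [← map_comp_points, ← map_comp_points, ← map_comp_points]
  exact map_congr_points (Iso.refl t) p

set_option maxHeartbeats 1000000 in
/-- the largest Deligne–Mumford open substack of an algebraic stack -/
theorem exists_largest_dm (h𝒳 : AS 𝒳) :
    ∃ Q : 𝒳.obj → Prop,
      AlgSt.IsOpenSubstack 𝒳 Q Scheme.fppfPrecoverage ∧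
      AlgSt.IsDM Scheme.fppfPrecoverage (AlgSt.fullSub 𝒳 Q) ∧
      (∀ Q' : 𝒳.obj → Prop, AlgSt.IsOpenSubstack 𝒳 Q' Scheme.fppfPrecoverage →
        AlgSt.IsDM Scheme.fppfPrecoverage (AlgSt.fullSub 𝒳 Q') → ∀ A, Q' A → Q A) ∧
      ∀ (U : Over S) (x : FibCat.overCat U ⥤ᵇ 𝒳),
        (∀ u : (FibCat.overCat U).obj, Q (x.obj u)) ↔ RepByAlgSpWith (LocP Unr) (FibCat.fpFst x IX) := by
  have hI : AS (FibCat.inertia (FibCat.toSelf 𝒳)) := IsoSh.isAlgStack_inertia h𝒳
  have hl := repWith_inertia_of_diag (repWith_lft_diag_toSelf h𝒳)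
  obtain ⟨V, y, hy, hy'⟩ := exists_atlas_sp h𝒳
  obtain ⟨OI, hOI, hmax⟩ := exists_isMaxOn locusHyp_unramified hI h𝒳 hl y hy
  let O := AlgSt.Points.map NX ⁻¹' OI
  have hO : IsOpen O := hOI.preimage (continuous_map hI NX)
  have hQ := isOpenSubstack_inSet h𝒳 hO
  have hdm := isDMOver_fullSub h𝒳 y hy hy' hOI hmax
  refine ⟨InSet O, hQ, ⟨hQ.2.1, ?_⟩, fun Q' hQ' hdm' A hA => ?_, fun U x => ⟨fun h => ?_, fun h u => ?_⟩⟩
  · obtain ⟨V', z, hz, hz'⟩ := exists_atlas_sp hQ.2.1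
    exact hasAtlas_etale hQ.2.1.isStack.1 hQ.2.1.diag hdm z hz hz'
  · obtain ⟨-, hQeq⟩ := isOpen_range_and_eq_inSet h𝒳 hQ'
    have hd' := DMDiag.isDMOver_of_etaleAtlas hQ'.2.1.isStack.1 hQ'.2.1.diag hdm'.2
    have hI' := (GerbDense.repWith_inertia_fullSub_iff Q').2 (repWith_inertia_of_diag hd')
    rw [← hQeq] at hA
    refine inSet_mono ?_ hA
    rintro _ ⟨z, rfl⟩
    obtain ⟨U, a, t, rfl⟩ := exists_ofChart hQ'.2.1.isStack.1 z
    have hx : RepByAlgSpWith (LocP Unr) (FibCat.fpFst (BasedFunctor.comp a (AlgSt.subIncl 𝒳 Q')) IX) :=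
      (repWith_iff_of_equiv _ (FibCat.fpFst (BasedFunctor.comp a (AlgSt.subIncl 𝒳 Q')) IX)
        (FibCat.fpFst a (FibCat.fpFst (AlgSt.subIncl 𝒳 Q') IX))
        (pasteFun a _ IX) (BasedFunctor.id _) (isEquivOver_pasteFun a _ IX) isEquivOver_id (Iso.refl _)).2
        (AlgStLib.repWith_fpFst _ _ a hI')
    refine range_subset_of_unramified h𝒳 y hy hy' hmax _ hx ⟨AlgSt.Points.ofChart (BasedFunctor.id _) t, ?_⟩
    rw [map_ofChart, map_ofChart]
    rfl
  · let xO := liftSub (InSet O) x h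
    exact (repWith_iff_of_equiv _ (FibCat.fpFst x IX)
      (FibCat.fpFst xO (FibCat.fpFst (AlgSt.subIncl 𝒳 (InSet O)) IX))
      (pasteFun xO _ IX) (BasedFunctor.id _) (isEquivOver_pasteFun xO _ IX) isEquivOver_id (Iso.refl _)).2
      (AlgStLib.repWith_fpFst _ _ xO ((GerbDense.repWith_inertia_fullSub_iff _).2 (repWith_inertia_of_diag hdm)))
  · exact inSet_mono (range_subset_of_unramified h𝒳 y hy hy' hmax x h)
      (inSet_range_map (Groth.Agent.FibCatRep.isFibGrpd_overCat U) h𝒳.isStack.1 x u)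

end Groth.Agent.DMLargest

end
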