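import Groth.Agent.DMSlice.NearLocus
import Groth.Agent.UnramPt.Basic

/-!
# Being unramified near a point descends along arbitrary base change
-/

set_option autoImplicit false
set_option backward.isDefEq.respectTransparency false
set_option backward.isDefEq.respectTransparency.types false
set_option linter.style.haveILetI false
universe u

noncomputable section

namespace Groth.Agent.DMLargest

open CategoryTheory CategoryTheory.Limits AlgebraicGeometry Groth.Agent.AlgSpLib Groth.Agent.SchImg Groth.Agent.AlgStLib Groth.Agent.DMSlice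
open _root_.AlgSp

variable {S : Scheme.{u}}

/-- unramified morphisms of schemes -/
abbrev Unr : MorphismProperty Scheme.{u} := @LocallyOfFiniteType ⊓ @FormallyUnramified

/-- being unramified near a point descends along any base change of schemes -/
theorem nearAt_of_baseChange {U V V' : Scheme.{u}} (h : U ⟶ V) [LocallyOfFiniteType h] (k : V' ⟶ V)
    (x : ↑(pullback h k)) (hx : NearAt Unr (pullback.snd h k) x) : NearAt Unr h (pullback.fst h k x) := by
  obtain ⟨W', hxW', hW'⟩ := hx
  obtain ⟨W, hxW, hW⟩ := UnramPt.exists_nhd_of_baseChange h k x W' hxW' hW'.2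
  exact ⟨W, hxW, inferInstance, hW⟩

/-- the locus of unramified points descends along smooth base change -/
theorem schDesc_unramified : SchDesc Unr @LocallyOfFiniteType := fun _ _ _ h k hh _ x hx => by
  haveI := hh
  exact nearAt_of_baseChange h k x hx

/-- being unramified near a point descends along any base change of algebraic spaces -/
theorem near_of_baseChange_unramified {X Y X' Y' : Sp S} (hX : IsAlgSpace X) (hY : IsAlgSpace Y)
    (hX' : IsAlgSpace X') (hY' : IsAlgSpace Y') {f : X ⟶ Y} {g : Y' ⟶ Y} {f' : X' ⟶ Y'} {g' : X' ⟶ X}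
    (sq : IsPullback g' f' f g) (hQ : LocP @LocallyOfFiniteType f) {x' : Points X'} (h : Near Unr f' x') :
    Near Unr f (Points.map g' x') := by
  have hP := etST_unramified.{u}
  obtain ⟨X₁, hX₁, j, hj, hxj, hP₁⟩ := (hasAtMor_iff_exists_open hP hX' hY' f' x').1 h
  obtain ⟨V, b, hbe, hbs⟩ := hY.atlas
  obtain ⟨U, a, α, hae, has, hα⟩ := exists_chart_lift hX hY f hbe hbs
  obtain ⟨V', p, hpe, hps⟩ := hY'.atlas
  obtain ⟨R, k, pr, sqR⟩ := exists_pullback hY.diag b (p ≫ g)
  let U'' : Over S := Over.mk (pullback.fst α.left k.left ≫ U.hom)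
  let u₁ : U'' ⟶ U := Over.homMk (pullback.fst α.left k.left) rfl
  let u₂ : U'' ⟶ R := Over.homMk (pullback.snd α.left k.left) (by
    show pullback.snd α.left k.left ≫ R.hom = pullback.fst α.left k.left ≫ U.hom
    rw [← Over.w k, ← pullback.condition_assoc, Over.w α])
  have sqU : IsPullback ((yon S).map u₁) ((yon S).map u₂) ((yon S).map α) ((yon S).map k) :=
    isPullback_yon_iff.2 (IsPullback.of_hasPullback α.left k.left)
  have sqV : IsPullback ((yon S).map u₁) ((yon S).map (u₂ ≫ pr)) (a ≫ f) (p ≫ g) := by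
    rw [hα, Functor.map_comp]
    exact sqU.paste_vert sqR
  let a'' := sq.lift ((yon S).map u₁ ≫ a) ((yon S).map (u₂ ≫ pr) ≫ p)
    (by rw [Category.assoc, sqV.w, Category.assoc])
  have ha'' : RepWith @Etale a'' := FibreFlat.chart_baseChange @Etale sq sqV hae hpe
  have hs'' : RepWith @Surjective a'' := FibreFlat.chart_baseChange @Surjective sq sqV has hps
  obtain ⟨u, hu⟩ := ofPt_surjective hs'' x'
  have hq : RepWith @Etale ((yon S).map pr ≫ p) := repWith_comp (repWith_baseChange sqR hbe) hpe
  obtain ⟨O, fst, sqO⟩ := exists_open_pullback hj a''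
  have huO : u ∈ O := (mem_open_iff sqO u).2 (hu ▸ hxj)
  let ι : Over.mk (O.ι ≫ U''.hom) ⟶ U'' := Over.homMk O.ι rfl
  have h₁ : Unr (ι ≫ u₂).left := hP₁ fst ((yon S).map pr ≫ p) (ι ≫ u₂) (repWith_baseChange sqO.flip ha'') hq (by
    rw [reassoc_of% sqO.w, sq.lift_snd, Functor.map_comp, Functor.map_comp, Category.assoc, Category.assoc])
  haveI : LocallyOfFiniteType α.left := hQ a b α hae hbe hα
  obtain ⟨W, hW, hPW⟩ := nearAt_of_baseChange α.left k.left u ⟨O, huO, h₁⟩
  refine ⟨U, V, a, b, α, u₁.left u, hae, hbe, hα, ?_, W, hW, hPW⟩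
  rw [← hu, Points.map_ofPt, sq.lift_fst, ofPt_comp]

end Groth.Agent.DMLargest

end
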