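import Groth.Agent.DMLargest.Near
import Groth.Agent.GerbDense.Inertia
import Groth.Agent.AlgStLib.DiagProps
import Groth.Agent.LargestOpen.Instances

/-!
# Points of the inertia over maps along which it is unramified
-/

set_option autoImplicit false
set_option backward.isDefEq.respectTransparency false
set_option backward.isDefEq.respectTransparency.types false
set_option linter.style.haveILetI false
universe u

noncomputable section

namespace Groth.Agent.DMLargest

open CategoryTheory CategoryTheory.Limits AlgebraicGeometry Groth.Agent.AlgSpLib Groth.Agent.StkBasic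
  Groth.Agent.FibCatRep Groth.Agent.FibCat2Misc Groth.Agent.AlgStLib Groth.Agent.DMSlice
open _root_.AlgSp _root_.AlgSt

variable {S : Scheme.{u}} {𝒳 𝒴 : AlgSt.Cat S}

/-- the hypotheses for the unramified locus -/
theorem locusHyp_unramified :
    LocusHyp (S := S) (LocP Unr) (LocP @LocallyOfFiniteType) (LocP @Smooth) :=
  locusHyp etST_unramified cls_unramified cls_lft schDesc_unramified

set_option maxHeartbeats 1000000 in
/-- over a map along which it is unramified, all points lie in the largest unramified locus -/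
theorem mem_of_unramified (h𝒳 : FibCat.IsFibGrpd 𝒳.p) (h𝒴 : FibCat.IsFibGrpd 𝒴.p) {f : 𝒳 ⥤ᵇ 𝒴}
    (hf : RepByAlgSpWith (LocP @LocallyOfFiniteType) f) {V : AlgSp.Space S} (y : AlgSt.ofSp V.obj ⥤ᵇ 𝒴)
    (hy : RepByAlgSpWith (LocP @Smooth) y) (hy' : RepByAlgSpWith AlgSp.IsSurjectiveMor y)
    {O : Set (AlgSt.Points 𝒳)} (hmax : IsMaxOn (LocP Unr) f O y)
    {T : AlgSp.Space S} (t : AlgSt.ofSp T.obj ⥤ᵇ 𝒴) (ht : RepByAlgSpWith (LocP Unr) (FibCat.fpFst t f))
    (p : AlgSt.Points (AlgSt.ofSp T.obj)) (r : AlgSt.Points 𝒳)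
    (h : AlgSt.Points.map t p = AlgSt.Points.map f r) : r ∈ O := by
  have hT := isFibGrpd_ofSpace (S := S) T.obj.obj
  have hV := isFibGrpd_ofSpace (S := S) V.obj.obj
  have H := locusHyp_unramified (S := S)
  obtain ⟨B, kB, eB, heB, hkB, -⟩ := exists_model_space cls_smooth.bc cls_smooth.loc hV h𝒴 hy T t
  let K₁ := BasedFunctor.comp eB (FibCat.fpFst t y)
  let K₂ := BasedFunctor.comp eB (FibCat.fpSnd t y)
  let k₂ : B ⟶ V := ObjectProperty.homMk (ObjectProperty.homMk (mapOf K₂))
  let tB := BasedFunctor.comp K₁ t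
  let i : BasedFunctor.comp K₂ y ≅ tB := (Stk.restr eB _).mapIso (FibCat.fpIso t y).symm
  obtain ⟨A, a, e, he, ha, hPa⟩ := exists_model_space cls_unramified.bc cls_unramified.loc
    (isFibGrpd_fp hT h𝒳 h𝒴 t f) hT ht B K₁
  let m' : Mdl f tB := ⟨A, a, BasedFunctor.comp e (pasteFun K₁ t f),
    isEquivOver_comp he (isEquivOver_pasteFun K₁ t f), ha⟩
  obtain ⟨m⟩ := exists_mdl H h𝒳 h𝒴 hf y
  obtain ⟨W, w, hw⟩ := H.ex _ _ m.a (m.prop H.hQb H.hQ hf)
  obtain ⟨g, sq, hg⟩ := exists_bc K₂ k₂ rfl i m m'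
  obtain ⟨v, hv⟩ := isSurjective_of_repWith hV h𝒴 hy' (AlgSt.Points.map t p)
  obtain ⟨q, hq₁, -⟩ := exists_points_fp hV h𝒴 hT y t p v hv.symm
  obtain ⟨b, hb⟩ := (bijective_map_of_equiv heB).2 q
  obtain ⟨z, hz₁, hz₂⟩ := exists_points_fp h𝒳 h𝒴 (isFibGrpd_ofSpace B.obj.obj) f tB b r (by
    rw [show AlgSt.Points.map tB b = AlgSt.Points.map t (AlgSt.Points.map K₁ b) from map_comp_points _ _ _,
      show AlgSt.Points.map K₁ b = AlgSt.Points.map (FibCat.fpFst t y) (AlgSt.Points.map eB b) from map_comp_points _ _ _,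
      hb, hq₁, h])
  obtain ⟨x', rfl⟩ := m'.bijective_pts.2 z
  have hnear : Near Unr m'.a.hom x' := by
    have := near_of_openImm (P := Unr) etST_unramified A.property B.property A.property a.hom (j := 𝟙 A.obj)
      (repWith_of_isIso _) (by rw [Category.id_comp]; exact hPa) x'
    rwa [Points.map_id] at this
  have hmem : AlgSp.Points.map g.hom x' ∈ Set.range (AlgSp.Points.map w.hom) := by
    rw [range_eq_locus etST_unramified hw]
    exact near_of_baseChange_unramified m.A.property V.property A.property B.property sq (m.prop H.hQb H.hQ hf) hnear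
  have hS : m.pts (AlgSp.Points.map g.hom x') ∈ AlgSt.Points.map (FibCat.fpSnd y f) ⁻¹' O :=
    (hmax m W w hw).le ⟨_, hmem, rfl⟩
  rw [Set.mem_preimage, hg, ← map_comp_points] at hS
  have hsnd : AlgSt.Points.map (BasedFunctor.comp (bcFun f K₂ i) (FibCat.fpSnd y f)) (m'.pts x') =
      AlgSt.Points.map (FibCat.fpSnd tB f) (m'.pts x') :=
    map_congr_points (Iso.refl _) _
  rwa [hsnd, hz₂] at hS

end Groth.Agent.DMLargest

end
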