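import Groth.Agent.DMLargest.Main
import Groth.Agent.StkSmall.Transfer

/-!
# The largest Deligne–Mumford open substack, any universes
-/

set_option autoImplicit false
set_option backward.isDefEq.respectTransparency false
set_option backward.isDefEq.respectTransparency.types false
set_option linter.style.haveILetI false
universe v₂ u₂ u

noncomputable section

namespace Groth.Agent.DMLargest

open CategoryTheory CategoryTheory.Limits AlgebraicGeometry Groth.Agent.AlgSpLib Groth.Agent.StkBasic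
  Groth.Agent.FibCatRep Groth.Agent.FibCat2Misc Groth.Agent.AlgStLib Groth.Agent.StkSmall
open _root_.AlgSp _root_.AlgSt

variable {S : Scheme.{u}} {𝒳 : BasedCategory.{v₂, u₂} (Over S)}

/-- the largest Deligne–Mumford open substack of an algebraic stack, any universes -/
theorem exists_largest_dm_any (h𝒳 : IsAlgStack Scheme.fppfPrecoverage 𝒳) :
    ∃ Q : 𝒳.obj → Prop,
      AlgSt.IsOpenSubstack 𝒳 Q Scheme.fppfPrecoverage ∧
      AlgSt.IsDM Scheme.fppfPrecoverage (AlgSt.fullSub 𝒳 Q) ∧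
      (∀ Q' : 𝒳.obj → Prop, AlgSt.IsOpenSubstack 𝒳 Q' Scheme.fppfPrecoverage →
        AlgSt.IsDM Scheme.fppfPrecoverage (AlgSt.fullSub 𝒳 Q') → ∀ A, Q' A → Q A) ∧
      ∀ (U : Over S) (x : FibCat.overCat U ⥤ᵇ 𝒳),
        (∀ u : (FibCat.overCat U).obj, Q (x.obj u)) ↔
          RepByAlgSpWith (LocP Unr) (FibCat.fpFst x (FibCat.inertiaToBase (FibCat.toSelf 𝒳))) := by
  obtain ⟨𝒳', E, hE⟩ := exists_small_model h𝒳
  obtain ⟨G, -, ⟨iE⟩, ⟨iG⟩⟩ := FibCat2Misc.isEquivOver_symm hE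
  obtain ⟨Q₀, h₁, h₂, h₃, h₄⟩ := exists_largest_dm ((isAlgStack_iff hE).2 h𝒳)
  let Q : 𝒳.obj → Prop := fun a => Q₀ (G.obj a)
  have hiso := h₁.1
  have hQ : ObjectProperty.IsClosedUnderIsomorphisms Q := ⟨fun i h => hiso.of_iso (G.toFunctor.mapIso i) h⟩
  let jE : ∀ a, G.obj (E.obj a) ≅ a := fun a => ((BasedNatTrans.forgetful _ _).mapIso iE).app a
  let jG : ∀ a, E.obj (G.obj a) ≅ a := fun a => ((BasedNatTrans.forgetful _ _).mapIso iG).app a
  have he : (fun a => Q (E.obj a)) = Q₀ :=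
    funext fun a => propext ⟨fun h => hiso.of_iso (jE a) h, fun h => hiso.of_iso (jE a).symm h⟩
  have hopen : AlgSt.IsOpenSubstack 𝒳 Q Scheme.fppfPrecoverage := (isOpenSubstack_iff hE hQ).1 (he.symm ▸ h₁)
  refine ⟨Q, hopen, (isDM_iff (isEquivOver_subFun hE hQ)).1 (he.symm ▸ h₂), fun Q' hQ' hdm A hA => ?_,
    fun U x => ?_⟩
  · exact h₃ _ ((isOpenSubstack_iff hE hQ'.1).2 hQ') ((isDM_iff (isEquivOver_subFun hE hQ'.1)).2 hdm) (G.obj A)
      (hQ'.1.of_iso (jG A).symm hA)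
  · let x' := BasedFunctor.comp x G
    let i : BasedFunctor.comp x' E ≅ x := (Stk.restr x 𝒳).mapIso iG
    exact (h₄ U x').trans (repWith_fpFst_inertia_iff hE i).symm

end Groth.Agent.DMLargest

end
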